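import Cfsg.Agent.H68.OT.Rows

/-!
# S2539, 4.4: the Sylow `l`-subgroup `Q ≤ T` of `L`

* `normalizer_eq` : `N_L(Q) = M ∩ L`; `isTI` : `Q` is a TI subgroup; `not_isCyclic` : `Q` is not cyclic;
* `sq_le_tor` : `l² ≤ |T[l]|` for `l ≠ 3`.
-/

set_option autoImplicit false

open Subgroup
open scoped Pointwise

namespace Cfsg.Agent.H68.OT

open Cfsg.Agent.H712.OT Cfsg.Agent.H214.OT

universe u v w

section Torus

variable {K : Type u} [Field K] [Fintype K] {Y : Type v} [Group Y] {T M : Subgroup Y}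
  {Φ : Type w} {Ψ : Set Φ} {P : Φ → Φ → ℤ}

theorem zpowers_isPGroup {G : Type*} [Group G] {l n : ℕ} {x : G} (h : x ^ l ^ n = 1) :
    IsPGroup l (zpowers x) := by
  rintro ⟨y, hy⟩
  obtain ⟨j, rfl⟩ := mem_zpowers_iff.1 hy
  refine ⟨n, Subtype.ext ?_⟩
  show (x ^ j) ^ l ^ n = 1
  rw [← zpow_natCast, ← zpow_mul, mul_comm, zpow_mul, zpow_natCast, h, one_zpow]

/-- an `l`-element of `T ∩ L` is in `Q` -/
theorem mem_Q [Finite Y] (X : Ctx K Y T M Φ Ψ P) {L : Subgroup Y} {l : ℕ} [Fact l.Prime]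
    (Q : Sylow l L) (hQT : ∀ x : L, x ∈ (Q : Subgroup L) → (x : Y) ∈ T) {t : L} (ht : (t : Y) ∈ T)
    {n : ℕ} (htl : t ^ l ^ n = 1) : t ∈ (Q : Subgroup L) := by
  apply mem_of_normalizes Q (zpowers_isPGroup htl)
  have h2 : ∀ x : L, x ∈ (Q : Subgroup L) → t * x = x * t := by
    intro x hx
    exact Subtype.ext (X.comm t ht x (hQT x hx))
  rw [Subgroup.mem_normalizer_iff]
  intro x
  constructor
  · intro hx
    have h3 : x ∈ (Q : Subgroup L) := hx
    show t * x * t⁻¹ ∈ (Q : Subgroup L)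
    rw [h2 x h3, mul_inv_cancel_right]
    exact h3
  · intro hx
    have h3 : t * x * t⁻¹ ∈ (Q : Subgroup L) := hx
    have h4 := h2 _ h3
    have h5 : x = t * x * t⁻¹ := by
      have h6 : t * (t * x * t⁻¹) = t * (x * 1) := by
        rw [h4, mul_one]; group
      have h7 := mul_left_cancel h6
      rw [mul_one] at h7
      exact h7.symm
    show x ∈ (Q : Subgroup L)
    rw [h5]
    exact h3

/-- `N_L(Q) = M ∩ L` -/
theorem normalizer_eq [Finite Y] (X : Ctx K Y T M Φ Ψ P) {L : Subgroup Y} {l : ℕ} [Fact l.Prime]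
    (Q : Sylow l L) (hQT : ∀ x : L, x ∈ (Q : Subgroup L) → (x : Y) ∈ T)
    (hne : (Q : Subgroup L) ≠ ⊥) :
    normalizer ((Q : Subgroup L) : Set L) = M.subgroupOf L := by
  have key : ∀ m : L, (m : Y) ∈ M → ∀ x ∈ (Q : Subgroup L), m * x * m⁻¹ ∈ (Q : Subgroup L) := by
    intro m hm x hx
    obtain ⟨n, hn⟩ := Q.2 ⟨x, hx⟩
    have hn' : x ^ l ^ n = 1 := congrArg Subtype.val hn
    refine mem_Q X Q hQT (X.conj_mem m hm x (hQT x hx)) (n := n) ?_
    rw [conj_pow, hn', mul_one, mul_inv_cancel]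
  ext g
  rw [Subgroup.mem_subgroupOf]
  constructor
  · intro hg
    by_contra hgM
    apply hne
    rw [eq_bot_iff]
    intro x hx
    have h1 : g * x * g⁻¹ ∈ (Q : Subgroup L) := (Subgroup.mem_normalizer_iff.1 hg x).1 hx
    have h2 := X.ti (g : Y) hgM (x : Y) (hQT x hx) (hQT _ h1)
    exact Subgroup.mem_bot.2 (Subtype.ext h2)
  · intro hg
    rw [Subgroup.mem_normalizer_iff]
    intro x
    refine ⟨key g hg x, fun hx => ?_⟩
    have h1 := key g⁻¹ (M.inv_mem hg) _ hx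
    have e : g⁻¹ * (g * x * g⁻¹) * g⁻¹⁻¹ = x := by group
    rw [e] at h1
    exact h1

/-- `Q` is a TI subgroup of `L` -/
theorem isTI [Finite Y] (X : Ctx K Y T M Φ Ψ P) {L : Subgroup Y} {l : ℕ} [Fact l.Prime]
    (Q : Sylow l L) (hQT : ∀ x : L, x ∈ (Q : Subgroup L) → (x : Y) ∈ T) (g : L)
    (hg : g ∉ normalizer ((Q : Subgroup L) : Set L)) :
    (Q : Subgroup L) ⊓ (MulAut.conj g • (Q : Subgroup L)) = ⊥ := by
  by_cases hne : (Q : Subgroup L) = ⊥
  · rw [hne, bot_inf_eq]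
  rw [normalizer_eq X Q hQT hne, Subgroup.mem_subgroupOf] at hg
  rw [eq_bot_iff]
  intro x hx
  rw [Subgroup.mem_inf] at hx
  obtain ⟨hx1, hx2⟩ := hx
  rw [Subgroup.mem_pointwise_smul_iff_inv_smul_mem, ← map_inv, MulAut.smul_def,
    MulAut.conj_apply, inv_inv] at hx2
  have h1 : (g : Y) * ((g⁻¹ * x * g : L) : Y) * (g : Y)⁻¹ ∈ T := by
    have e : (g : Y) * ((g⁻¹ * x * g : L) : Y) * (g : Y)⁻¹ = (x : Y) := by
      rw [Subgroup.coe_mul, Subgroup.coe_mul, Subgroup.coe_inv]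
      group
    rw [e]
    exact hQT x hx1
  have h2 := X.ti (g : Y) hg _ (hQT _ hx2) h1
  have h3 : g⁻¹ * x * g = 1 := Subtype.ext h2
  have h4 : x = 1 := by
    calc x = g * (g⁻¹ * x * g) * g⁻¹ := by group
      _ = 1 := by rw [h3]; group
  exact Subgroup.mem_bot.2 h4

/-- a root of unity of order `l` -/
theorem exists_root {l : ℕ} (hl : l.Prime) (hd : l ∣ Fintype.card K - 1) :
    ∃ ζ : Kˣ, orderOf ζ = l := by
  classical
  have : Fact l.Prime := ⟨hl⟩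
  have h1 : l ∣ Nat.card Kˣ := by
    rw [Nat.card_units, Nat.card_eq_fintype_card]
    exact hd
  exact exists_prime_orderOf_dvd_card' l h1

/-- the `l`-torsion of `T` has at least `l²` elements, `l ≠ 3` -/
theorem sq_le_tor [Finite Y] (X : Ctx K Y T M Φ Ψ P) {l : ℕ} (hl : l.Prime) (h3 : l ≠ 3)
    (hd : l ∣ Fintype.card K - 1) : l ^ 2 ≤ tor X l := by
  classical
  obtain ⟨ζ, hζ⟩ := exists_root (K := K) hl hd
  obtain ⟨a, ha, b, hb, hab⟩ := X.rank
  have hba : P b a = -1 := by rw [X.symm]; exact hab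
  let E := zpowers ζ
  have hE : Nat.card E = l := by rw [Nat.card_zpowers, hζ]
  have hEl : ∀ c : E, (c : Kˣ) ^ l = 1 := by
    intro c
    have h1 : c ^ Nat.card E = 1 := pow_card_eq_one'
    rw [hE] at h1
    exact congrArg Subtype.val h1
  let f : E × E → {t : Y // t ∈ T ∧ t ^ l = 1} := fun p =>
    ⟨X.h a p.1 * X.h b p.2, T.mul_mem (X.h_mem _ _) (X.h_mem _ _), by
      have hc : Commute (X.h a p.1) (X.h b p.2) := X.comm _ (X.h_mem _ _) _ (X.h_mem _ _)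
      rw [hc.mul_pow, ← map_pow, ← map_pow, hEl, hEl, map_one, map_one, mul_one]⟩
  have hχ : ∀ c d : Kˣ, X.χ a (X.h a c * X.h b d) = c ^ (2 : ℤ) * d ^ (-1 : ℤ) ∧
      X.χ b (X.h a c * X.h b d) = c ^ (-1 : ℤ) * d ^ (2 : ℤ) := by
    intro c d
    constructor
    · rw [X.χ_mul a ha _ (X.h_mem _ _) _ (X.h_mem _ _), X.χ_h a ha a ha, X.χ_h b hb a ha,
        X.self, hab]
    · rw [X.χ_mul b hb _ (X.h_mem _ _) _ (X.h_mem _ _), X.χ_h a ha b hb, X.χ_h b hb b hb,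
        X.self, hba]
  have hf : Function.Injective f := by
    rintro ⟨c, d⟩ ⟨c', d'⟩ h
    have h1 : X.h a c * X.h b d = X.h a c' * X.h b d' := congrArg Subtype.val h
    have e1 := (hχ c d).1
    have e2 := (hχ c d).2
    rw [h1, (hχ c' d').1] at e1
    rw [h1, (hχ c' d').2] at e2
    -- `u = c / c'`, `v = d / d'`
    set u : Kˣ := (c : Kˣ) * (c' : Kˣ)⁻¹ with hu
    set v : Kˣ := (d : Kˣ) * (d' : Kˣ)⁻¹ with hv
    have e3 : u ^ (2 : ℤ) = v := by
      have e4 : (c : Kˣ) ^ (2 : ℤ) * (d : Kˣ) ^ (-1 : ℤ) =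
        (c' : Kˣ) ^ (2 : ℤ) * (d' : Kˣ) ^ (-1 : ℤ) := e1.symm
      rw [zpow_neg_one, zpow_neg_one, ← div_eq_mul_inv, ← div_eq_mul_inv,
        div_eq_div_iff_mul_eq_mul] at e4
      rw [hu, hv, mul_zpow, inv_zpow, ← div_eq_mul_inv, ← div_eq_mul_inv,
        div_eq_div_iff_mul_eq_mul, e4, mul_comm]
    have e5 : v ^ (2 : ℤ) = u := by
      have e4 : (c : Kˣ) ^ (-1 : ℤ) * (d : Kˣ) ^ (2 : ℤ) =
        (c' : Kˣ) ^ (-1 : ℤ) * (d' : Kˣ) ^ (2 : ℤ) := e2.symm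
      rw [zpow_neg_one, zpow_neg_one, mul_comm, mul_comm ((c' : Kˣ)⁻¹), ← div_eq_mul_inv,
        ← div_eq_mul_inv, div_eq_div_iff_mul_eq_mul] at e4
      rw [hu, hv, mul_zpow, inv_zpow, ← div_eq_mul_inv, ← div_eq_mul_inv,
        div_eq_div_iff_mul_eq_mul, e4, mul_comm]
    have e6 : u ^ 3 = 1 := by
      have e7 : u ^ (4 : ℤ) = u := by
        calc u ^ (4 : ℤ) = (u ^ (2 : ℤ)) ^ (2 : ℤ) := by rw [← zpow_mul]; norm_num
          _ = u := by rw [e3, e5]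
      have e8 : u ^ (3 : ℤ) * u = 1 * u := by
        rw [one_mul]
        calc u ^ (3 : ℤ) * u = u ^ (4 : ℤ) := by
              rw [show (4 : ℤ) = 3 + 1 by norm_num, zpow_add_one]
          _ = u := e7
      have e9 := mul_right_cancel e8
      exact_mod_cast e9
    have e7 : u ^ l = 1 := by
      rw [hu, mul_pow, inv_pow, hEl, hEl]; simp
    have e8 : u = 1 := by
      have h2 : orderOf u ∣ Nat.gcd 3 l := Nat.dvd_gcd (orderOf_dvd_of_pow_eq_one e6)
        (orderOf_dvd_of_pow_eq_one e7)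
      have h4 : Nat.gcd 3 l = 1 :=
        (Nat.coprime_primes Nat.prime_three hl).2 (fun h => h3 h.symm)
      rw [h4, Nat.dvd_one, orderOf_eq_one_iff] at h2
      exact h2
    have e9 : v = 1 := by rw [← e3, e8, one_zpow]
    rw [Prod.mk.injEq]
    exact ⟨Subtype.ext (mul_inv_eq_one.1 e8), Subtype.ext (mul_inv_eq_one.1 e9)⟩
  have h1 := Nat.card_le_card_of_injective f hf
  rw [Nat.card_prod, hE] at h1
  rw [pow_two]
  exact h1

/-- `Q` is not cyclic -/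
theorem not_isCyclic [Finite Y] (X : Ctx K Y T M Φ Ψ P) {L : Subgroup Y} {l : ℕ}
    [hl : Fact l.Prime] (Q : Sylow l L) (hQT : ∀ x : L, x ∈ (Q : Subgroup L) → (x : Y) ∈ T)
    (hTL : ∀ t ∈ T, t ^ l = 1 → t ∈ L) (h : l < tor X l) : ¬ IsCyclic (Q : Subgroup L) := by
  classical
  intro hc
  have := Fintype.ofFinite (Q : Subgroup L)
  have h1 := IsCyclic.card_pow_eq_one_le (α := (Q : Subgroup L)) hl.out.pos
  have h2 : tor X l ≤ (Finset.univ.filter fun a : (Q : Subgroup L) => a ^ l = 1).card := by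
    have key : ∀ t : {t : Y // t ∈ T ∧ t ^ l = 1},
        (⟨t.1, hTL t.1 t.2.1 t.2.2⟩ : L) ∈ (Q : Subgroup L) := by
      rintro ⟨t, ht, htl⟩
      refine mem_Q X Q hQT (t := ⟨t, hTL t ht htl⟩) ht (n := 1) ?_
      rw [pow_one]
      exact Subtype.ext htl
    unfold tor
    rw [← Nat.card_eq_finsetCard]
    refine Nat.card_le_card_of_injective (fun t => ⟨⟨_, key t⟩, ?_⟩) ?_
    · rw [Finset.mem_filter]
      exact ⟨Finset.mem_univ _, Subtype.ext (Subtype.ext t.2.2)⟩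
    · intro s t hst
      have h3 := congrArg Subtype.val hst
      have h4 := congrArg (fun z : (Q : Subgroup L) => ((z : L) : Y)) h3
      exact Subtype.ext h4
  omega

end Torus

end Cfsg.Agent.H68.OT
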