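import Cfsg.Agent.H68.OT.AbTI
import Cfsg.Agent.H68.OT.Ctx
import Cfsg.Agent.LThreeFour.Exists

/-!
# S2539, 4.4, the Sylow case: every row except `PSL₂(l^n)`

`psl_two` : if a Sylow `l`-subgroup `Q` of `L` lies in `T` and contains the `l`-torsion of `T` then `L ≅ PSL₂(l^n)`,
`n ≥ 2`, provided `27 ≤ |T[3]|` if `l = 3`, and `125 ≤ |T[5]|` or `K = F₁₆`, six roots, `[M : T]` dividing 12 if `l = 5`.
-/

set_option autoImplicit false

open Subgroup
open scoped Pointwise

namespace Cfsg.Agent.H68.OT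

open Cfsg Cfsg.Agent Cfsg.Agent.H712.OT Cfsg.Agent.H214.OT

universe u v w

/-- the Sylow 3-subgroups of `PSL₃(4)` and `M₁₁` have order 9 -/
theorem card_nine {G : Type*} [Group G] [Finite G] [Fact (Nat.Prime 3)] (P : Sylow 3 G)
    (h : (∃ (F : Type) (_ : Field F) (_ : Fintype F), Fintype.card F = 4 ∧
      Nonempty (G ≃* Matrix.ProjectiveSpecialLinearGroup (Fin 3) F)) ∨ Spor.IsoM11 G) :
    Nat.card P = 9 := by
  rcases h with ⟨F, i, j, hF, ⟨e⟩⟩ | h
  · obtain ⟨A⟩ := LThreeFour.exists_dat hF e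
    exact card_of P (n := 2) (m := 2240) (by rw [A.card]; norm_num) (by norm_num)
  · exact card_of P (n := 2) (m := 880) (by rw [NotCT.Orders.m11 h]; norm_num)
      (by norm_num)

variable {K : Type u} [Field K] [Fintype K] {Y : Type v} [Group Y] {T M : Subgroup Y}
  {Φ : Type w} {Ψ : Set Φ} {P : Φ → Φ → ℤ}

/-- **The Sylow case: all rows except `PSL₂(l^n)`.** -/
theorem psl_two [Finite Y] (X : Ctx K Y T M Φ Ψ P) {L : Subgroup Y} (hLs : IsSimpleGroup L)
    (hna : ¬ ∀ x y : L, x * y = y * x) {l : ℕ} [hl : Fact l.Prime] (hl2 : l ≠ 2)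
    (hd : l ∣ Fintype.card K - 1) (Q : Sylow l L)
    (hQT : ∀ x : L, x ∈ (Q : Subgroup L) → (x : Y) ∈ T) (hTL : ∀ t ∈ T, t ^ l = 1 → t ∈ L)
    (h3 : l = 3 → 27 ≤ tor X 3)
    (h5 : l = 5 → (Fintype.card K = 16 ∧ Nat.card Ψ = 6 ∧ (T.subgroupOf M).index ∣ 12) ∨
      125 ≤ tor X 5) :
    ∃ (F : Type) (_ : Field F) (_ : Fintype F) (n : ℕ), 2 ≤ n ∧ Fintype.card F = l ^ n ∧
      Nonempty (L ≃* Matrix.ProjectiveSpecialLinearGroup (Fin 2) F) := by
  have hlt : l < tor X l := by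
    by_cases h : l = 3
    · have h4 := h3 h
      subst h
      omega
    · have h4 := sq_le_tor X hl.out h hd
      have h5 := hl.out.one_lt
      nlinarith
  have hnc := not_isCyclic X Q hQT hTL hlt
  have htor := tor_le X Q hQT hTL
  have hne : (Q : Subgroup L) ≠ ⊥ := by
    intro h
    apply hnc
    rw [h]
    infer_instance
  have hab : ∀ x ∈ (Q : Subgroup L), ∀ y ∈ (Q : Subgroup L), x * y = y * x := fun x hx y hy =>
    Subtype.ext (X.comm x (hQT x hx) y (hQT y hy))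
  have hna' : ¬ IsMulCommutative L := fun h => hna fun x y => h.is_comm.comm x y
  rcases abelian_ti hna' hl2 Q hab (isTI X Q hQT) hnc with h | ⟨rfl, h⟩ | ⟨rfl, h⟩
  · exact h
  · exfalso
    have h4 := card_nine Q h
    have h6 := h3 rfl
    omega
  · exfalso
    have hL : Nat.card L = 17971200 := NotCT.Orders.tits h
    have h4 : Nat.card Q = 25 := card_of Q (n := 2) (m := 718848) (by rw [hL]; norm_num)
      (by norm_num)
    rcases h5 rfl with ⟨hK, h6, h7⟩ | h6
    · refine tits_false X.TM ?_ h7 hL Q (isTI X Q hQT) (normalizer_eq X Q hQT hne)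
      have h8 := card_T_dvd X h6
      rw [hK] at h8
      exact h8
    · omega

end Cfsg.Agent.H68.OT
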